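import Cfsg.Agent.Coset.Table
import Cfsg.Agent.Coset.Fi22.Rels
import Cfsg.Agent.Coset.Fi22.ColData

set_option autoImplicit false
set_option maxRecDepth 100000
set_option Elab.async false

namespace CfsgLib.Coset.Fi22.Col

/-- The relators with the collapsing word. -/
def crels : List (List Nat) := rels ++ [[1, 2, 3, 8, 5, 4, 0, 7]]

theorem hR : checkRules crels subs R = true := by decide +kernel
theorem hdefs : checkDefs E 9 8 134 = true := by decide +kernel
theorem hsteps : checkChunks E id R 9 3 134 7 C = true := by decide +kernel
theorem htable : checkTable E id (134 + chunk * 7) 1 9 1 4 Rep Ref Tb = true := by decide +kernel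

end CfsgLib.Coset.Fi22.Col
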