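import Cfsg.Agent.Coset.Pres
import Cfsg.Agent.Coset.Fi22.Rels
import Cfsg.Prelude.Def_Spor_Fi22

/-! The presentation of `Cfsg.Spor.Fi22` as lists of words. -/

set_option autoImplicit false

namespace CfsgLib.Coset.Fi22

open Cfsg.Spor

/-- Generator numbering. -/
def ix : Fi22.Gen → Nat
  | .a => 0
  | .b => 1
  | .c => 2
  | .d => 3
  | .e => 4
  | .f => 5
  | .g => 6
  | .h => 7
  | .i => 8

/-- The presentation data. -/
@[reducible] def pres : PresData Fi22.Gen where
  edges := Fi22.edges
  nodes := [.a, .b, .c, .d, .e, .f, .g, .h, .i]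
  extra := Fi22.extra
  ix := ix

theorem pres_ok : pres.OK := ⟨by intro x; cases x <;> decide⟩

end CfsgLib.Coset.Fi22

namespace CfsgLib.Coset.Fi22

theorem rels_eq : pres.rels = rels := by decide +kernel

end CfsgLib.Coset.Fi22
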