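import Cfsg.Agent.Coset.Fi22.L0Table0
import Cfsg.Agent.Coset.Fi22.L0Steps0
import Mathlib.Tactic.IntervalCases

set_option autoImplicit false
set_option maxRecDepth 100000
set_option Elab.async false

namespace CfsgLib.Coset.Fi22.L0

theorem hR : checkRules rels subs R = true := by decide +kernel
theorem hdefs : checkDefs E 9 14 15638 = true := by decide +kernel
theorem hsteps : checkChunks E id R 9 (8 + 2) 15638 947 C = true :=
  checkChunks_of_blocks (by decide +kernel) fun b hb => by
    have : b < 4 := hb
    interval_cases b
    · exact hsteps0
    · exact hsteps1
    · exact hsteps2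
    · exact hsteps3

theorem htable : checkTable E id (15638 + chunk * 947) 14080 9 (13 + 1) 4 Rep Ref Tb = true :=
  checkTable_of_blocks (by decide +kernel) (by decide +kernel) fun b hb => by
    have : b < 2 := hb
    interval_cases b
    · exact htable0
    · exact htable1

end CfsgLib.Coset.Fi22.L0
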