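import Cfsg.Agent.Coset.Blocks
import Cfsg.Agent.Coset.Fi22.L0Data

set_option autoImplicit false
set_option maxRecDepth 100000
set_option Elab.async false

namespace CfsgLib.Coset.Fi22.L0

theorem htable0 : belowBlock 13 14080 (tableAt E id (15638 + chunk * 947) 14080 9 4 Rep Ref Tb) 0 = true := by decide +kernel
theorem htable1 : belowBlock 13 14080 (tableAt E id (15638 + chunk * 947) 14080 9 4 Rep Ref Tb) 1 = true := by decide +kernel

end CfsgLib.Coset.Fi22.L0
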