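import Cfsg.Agent.Coset.Table
import Cfsg.Agent.Coset.Fi22.Rels
import Cfsg.Agent.Coset.Fi22.L2Data

set_option autoImplicit false
set_option maxRecDepth 100000
set_option Elab.async false

namespace CfsgLib.Coset.Fi22.L2

/-- The relators on these letters, renumbered. -/
def lrels : List (List Nat) := [[0, 0], [0, 1, 0, 1, 0, 1], [0, 2, 0, 2], [0, 3, 0, 3], [0, 4, 0, 4], [0, 5, 0, 5], [0, 6, 0, 6], [1, 1], [1, 2, 1, 2, 1, 2], [1, 3, 1, 3], [1, 4, 1, 4], [1, 5, 1, 5], [1, 6, 1, 6], [2, 2], [2, 3, 2, 3, 2, 3], [2, 4, 2, 4], [2, 5, 2, 5], [2, 6, 2, 6, 2, 6], [3, 3], [3, 4, 3, 4, 3, 4], [3, 5, 3, 5], [3, 6, 3, 6], [4, 4], [4, 5, 4, 5, 4, 5], [4, 6, 4, 6], [5, 5], [5, 6, 5, 6], [6, 6], [0, 1, 2, 3, 4, 5, 6, 0, 1, 2, 3, 4, 5, 6, 0, 1, 2, 3, 4, 5, 6, 0, 1, 2, 3, 4, 5, 6, 0, 1, 2, 3, 4, 5, 6, 0, 1, 2, 3, 4, 5, 6, 0, 1, 2, 3, 4, 5, 6, 0, 1, 2, 3, 4, 5, 6,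 0, 1, 2, 3, 4, 5, 6]]

theorem hR : checkRules lrels subs R = true := by decide +kernel
theorem hdefs : checkDefs E 7 5 28 = true := by decide +kernel
theorem hsteps : checkChunks E id R 7 1 28 2 C = true := by decide +kernel
theorem htable : checkTable E id (28 + chunk * 2) 28 7 5 3 Rep Ref Tb = true := by decide +kernel

end CfsgLib.Coset.Fi22.L2
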