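import Cfsg.Agent.Coset.Fi22.TopSteps0
import Cfsg.Agent.Coset.Fi22.TopRels0
import Mathlib.Tactic.IntervalCases

set_option autoImplicit false
set_option maxRecDepth 100000
set_option Elab.async false

namespace CfsgLib.Coset.Fi22.Top

theorem hR : checkRules rels subs R = true := by decide +kernel
theorem hdefs : checkDefs E 9 12 3532 = true := by decide +kernel
theorem hsteps : checkChunks E id R 9 (8 + 0) 3532 243 C = true :=
  checkChunks_of_blocks (by decide +kernel) fun b hb => by
    have : b < 1 := hb
    interval_cases b
    · exact hsteps0

theorem htable : checkTable E id (3532 + chunk * 243) 3510 9 12 4 Rep Ref Tb = true := by decide +kernel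
theorem hperm : checkPerm id 3510 9 12 4 Tb = true := by decide +kernel
theorem hrels : checkRels 3510 (10 + 2) Tb rels = true :=
  checkRels_of_blocks (by decide +kernel) fun b hb => by
    have : b < 4 := hb
    interval_cases b
    · exact hrels0
    · exact hrels1
    · exact hrels2
    · exact hrels3

theorem htrans : checkTrans 3510 9 12 Tb Par = true := by decide +kernel

end CfsgLib.Coset.Fi22.Top
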