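import Cfsg.Agent.Coset.Fi22.Main
import Cfsg.Agent.Coset.Fi22.L0
import Cfsg.Agent.Coset.Fi22.L1
import Cfsg.Agent.Coset.Fi22.L2
import Cfsg.Agent.Coset.Fi22.L3
import Cfsg.Agent.Coset.Fi22.L4
import Cfsg.Agent.Coset.Fi22.Col
import Cfsg.Prelude.Def_Sporadic

/-! The presented group `Cfsg.Spor.Fi22`: order, simplicity and the index of `⟨b, …, i⟩`. -/

set_option autoImplicit false
set_option maxRecDepth 100000
set_option Elab.async false

namespace CfsgLib.Coset.Fi22

theorem level {S S' : List Nat} {rs subs : List (List Nat)} {E Rep Tb : Nat → Nat}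
    {R : Tr (List Nat × Nat)} {d d' N nC n dn dk : Nat} {C Ref : Nat → Nat} (k : Nat)
    (hk : S.length = k)
    (hc : checkLevel rels 9 S S' rs subs = true)
    (hR : checkRules rs subs R = true) (hd : checkDefs E k d' N = true)
    (hs : checkChunks E id R k d N nC C = true)
    (ht : checkTable E id (N + chunk * nC) n k dn dk Rep Ref Tb = true) :
    TableOK (lv Lg S) (genBy Lg S') E id n Rep Tb := by
  have hl : (lv Lg S).length = k := by simp [lv, hk]
  exact tableOK_of_check (inv_lv sq_all S) hR (hl.symm ▸ hd) (hl.symm ▸ hs) (hl.symm ▸ ht)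
    (level_rels len_Lg hc ev_rels) (level_subs len_Lg hc)

theorem card_T : Finite (genBy Lg [1, 2, 3, 4, 5, 6, 7, 8]) ∧
    Nat.card (genBy Lg [1, 2, 3, 4, 5, 6, 7, 8]) ≤ 3159 * (28 * (27 * (1920 * 1))) := by
  have c1 : checkLevel rels 9 [1, 2, 3, 4, 5, 6, 7, 8] [1, 2, 3, 4, 5, 6, 7] L1.lrels L1.subs =
      true := by decide +kernel
  have c2 : checkLevel rels 9 [1, 2, 3, 4, 5, 6, 7] [1, 2, 3, 4, 5, 7] L2.lrels L2.subs = true := by
    decide +kernel
  have c3 : checkLevel rels 9 [1, 2, 3, 4, 5, 7] [2, 3, 4, 5, 7] L3.lrels L3.subs = true := by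
    decide +kernel
  have c4 : checkLevel rels 9 [2, 3, 4, 5, 7] [] L4.lrels L4.subs = true := by decide +kernel
  exact level_card (level 8 rfl c1 L1.hR L1.hdefs L1.hsteps L1.htable) (by decide) c1
    (level_card (level 7 rfl c2 L2.hR L2.hdefs L2.hsteps L2.htable) (by decide) c2
      (level_card (level 6 rfl c3 L3.hR L3.hdefs L3.hsteps L3.htable) (by decide) c3
        (level_card (level 5 rfl c4 L4.hR L4.hdefs L4.hsteps L4.htable) (by decide) c4
          card_genBy_nil)))

theorem card_le : Finite Cfsg.Spor.Fi22 ∧ Nat.card Cfsg.Spor.Fi22 ≤ 64561751654400 := by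
  have ht : TableOK Lg (genW Lg L0.subs) L0.E id 14080 L0.Rep L0.Tb :=
    tableOK_of_check inv_all L0.hR L0.hdefs L0.hsteps L0.htable ev_rels (fun _ hw => ev_mem_genW hw)
  have hT : genW Lg L0.subs = genBy Lg [1, 2, 3, 4, 5, 6, 7, 8] :=
    genW_singletons [1, 2, 3, 4, 5, 6, 7, 8]
  obtain ⟨hf, hc⟩ := ht.finite_card_le (by decide) (closure_Lg ▸ le_top)
    (hT.symm ▸ card_T.1) (hT.symm ▸ card_T.2)
  rw [closure_Lg] at hf hc
  rw [Subgroup.card_top] at hc
  exact ⟨Finite.of_equiv _ Subgroup.topEquiv.toEquiv, hc.trans (by norm_num)⟩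

theorem card_and_injective : Nat.card Cfsg.Spor.Fi22 = 64561751654400 ∧ Function.Injective ρ := by
  have := card_le.1
  refine card_eq_and_injective (by decide) card_le.2 ?_
  have h5 := card_ker_le (ρ := ρ) [(0 : Fin 3510), 1, 192, 54, 8]
  have h4 := orbit_step matches_ρ (base := [(0 : Fin 3510), 1, 192, 54]) (β := 8) (m := 16) (dm := 4)
    (gens := Orb.B4G) (P := Orb.B4P) (Inv := Orb.B4Inv)
    (by decide +kernel) (by decide +kernel) (by decide +kernel) h5
  have h3 := orbit_step matches_ρ (base := [(0 : Fin 3510), 1, 192]) (β := 54) (m := 243) (dm := 8)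
    (gens := Orb.B3G) (P := Orb.B3P) (Inv := Orb.B3Inv)
    (by decide +kernel) (by decide +kernel) (by decide +kernel) h4
  have h2 := orbit_step matches_ρ (base := [(0 : Fin 3510), 1]) (β := 192) (m := 1680) (dm := 11)
    (gens := Orb.B2G) (P := Orb.B2P) (Inv := Orb.B2Inv)
    (by decide +kernel) (by decide +kernel) (by decide +kernel) h3
  have h1 := orbit_step matches_ρ (base := [(0 : Fin 3510)]) (β := 1) (m := 2816) (dm := 12)
    (gens := Orb.B1G) (P := Orb.B1P) (Inv := Orb.B1Inv)
    (by decide +kernel) (by decide +kernel) (by decide +kernel) h2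
  have h0 := orbit_step matches_ρ (base := []) (β := 0) (m := 3510) (dm := 12)
    (gens := Orb.B0G) (P := Orb.B0P) (Inv := Orb.B0Inv)
    (by decide +kernel) (by decide +kernel) (by decide +kernel) h1
  simpa [← mul_assoc] using h0

theorem index_T : (genBy Lg [1, 2, 3, 4, 5, 6, 7, 8]).index = 14080 := by
  have := card_le.1
  have hw : ∀ ws : List (List Nat), (ws.all fun w => w.all fun l =>
      [1, 2, 3, 4, 5, 6, 7, 8].contains l) = true →
      ∀ w ∈ ws, ev Lg w ∈ genBy Lg [1, 2, 3, 4, 5, 6, 7, 8] := by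
    intro ws h w hmem
    simp only [List.all_eq_true, List.contains_iff_mem] at h
    exact ev_mem_genBy _ fun l hl => h w hmem l hl
  set T := genBy Lg [1, 2, 3, 4, 5, 6, 7, 8] with hT
  have h3 : 1 ≤ Nat.card (T ⊓ baseStab ρ [(0 : Fin 3510), 242, 866] : Subgroup Cfsg.Spor.Fi22) :=
    Nat.card_pos
  have h2 := orbit_step_in matches_ρ T (base := [(0 : Fin 3510), 242]) (β := 866) (m := 648) (dm := 10)
    (gens := Orb.T2G) (P := Orb.T2P) (Inv := Orb.T2Inv)
    (by decide +kernel) (by decide +kernel) (by decide +kernel) (hw _ (by decide +kernel)) h3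
  have h1 := orbit_step_in matches_ρ T (base := [(0 : Fin 3510)]) (β := 242) (m := 2240) (dm := 12)
    (gens := Orb.T1G) (P := Orb.T1P) (Inv := Orb.T1Inv)
    (by decide +kernel) (by decide +kernel) (by decide +kernel) (hw _ (by decide +kernel)) h2
  have h0 := orbit_step_in matches_ρ T (base := []) (β := 0) (m := 3159) (dm := 12)
    (gens := Orb.T0G) (P := Orb.T0P) (Inv := Orb.T0Inv)
    (by decide +kernel) (by decide +kernel) (by decide +kernel) (hw _ (by decide +kernel)) h1
  have he : T ⊓ baseStab ρ ([] : List (Fin 3510)) = T := by simp [baseStab]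
  rw [he] at h0
  have hc : Nat.card T = 4585351680 :=
    le_antisymm (card_T.2.trans (by norm_num)) (le_trans (by norm_num) h0)
  have h := Subgroup.card_mul_index T
  rw [hc, card_and_injective.1] at h
  omega

/-- A word of order 13. -/
def u : List Nat := [1, 2, 3, 8, 5, 4, 0, 7]

theorem u_pow : ev Lg u ^ 13 ^ 1 = 1 := by
  apply card_and_injective.2
  rw [map_one, pow_ev]
  have hc : checkRels 3510 12 Top.Tb [(List.replicate (13 ^ 1) u).flatten] = true := by
    decide +kernel
  refine Equiv.ext fun i => ?_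
  have h := allList_iff.mp (of_allBelow hc i i.2) _ (List.mem_singleton_self _)
  have hl : ∀ l ∈ (List.replicate (13 ^ 1) u).flatten, l < (Lg).length := by decide +kernel
  exact (matches_ρ.fix_iff hl).mpr (Nat.eq_of_beq_eq_true h)

theorem collapse (N : Subgroup Cfsg.Spor.Fi22) [N.Normal] (hu : ev Lg u ∈ N) : N = ⊤ := by
  refine eq_top_of_collapse closure_Lg N hu fun L' hlen hL h1 => ?_
  have hl : L'.length = 9 := hlen
  have hr : ∀ w ∈ Col.crels, ev L' w = 1 := by
    intro w hw
    rcases List.mem_append.mp hw with hw | hw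
    · rw [hL, ev_rels w hw, map_one]
    · rw [List.mem_singleton.mp hw]; exact h1
  have hinv : ∀ x, fl L' (id x) = (fl L' x)⁻¹ := by
    intro x
    refine eq_inv_of_mul_eq_one_left ?_
    have := hL [x, x]
    simp only [ev_cons, ev_nil, mul_one, sq_all, map_one] at this
    exact this
  have hsub : ∀ w ∈ Col.subs, ev L' w ∈ (⊥ : Subgroup (Cfsg.Spor.Fi22 ⧸ N)) := by
    intro w hw; simp [Col.subs] at hw
  exact all_one_of_table (tableOK_of_check hinv Col.hR (hl.symm ▸ Col.hdefs)
    (hl.symm ▸ Col.hsteps) (hl.symm ▸ Col.htable) hr hsub)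

theorem isSimple : IsSimpleGroup Cfsg.Spor.Fi22 := by
  have := card_le.1
  have : Fact (Nat.Prime 13) := ⟨by norm_num⟩
  have hmax := pstab_isCoatom_of_orbits matches_ρ (by decide) orbits_ok subs_letters cover_ok
    transitive (by decide +kernel) index_and_eq.2.le (by decide +kernel) (by decide +kernel)
  refine isSimpleGroup_of_action (by decide) card_and_injective.2 transitive hmax
    (p := 13) (a := 1) (by norm_num) ?_ (ev Lg u) u_pow fun N hN hu => ?_
  · rw [card_and_injective.1]; norm_num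
  · exact @collapse N hN hu

theorem isFi22 : Cfsg.IsFi22 Cfsg.Spor.Fi22 := ⟨isSimple, card_and_injective.1⟩

end CfsgLib.Coset.Fi22
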