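import Cfsg.Agent.Coset.Fi22.Order
import Cfsg.Agent.Coset.U62.Cover
import Cfsg.Agent.Coset.ThreeTransp

/-! `Cfsg.Spor.Fi22` is generated by a class of 3510 3-transpositions. -/

set_option autoImplicit false
set_option maxRecDepth 100000
set_option Elab.async false

namespace CfsgLib.Coset.Fi22

/-- The transposition: the first generator. -/
noncomputable def t : Cfsg.Spor.Fi22 := ev Lg [0]

theorem t_eq : (U62.z : Cfsg.Spor.Fi22) = t := rfl

theorem orderOf_t : orderOf t = 2 := by
  rw [← t_eq, Subgroup.orderOf_coe]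
  refine orderOf_eq_prime ?_ U62.z_ne_one
  apply Subtype.ext
  show (U62.z : Cfsg.Spor.Fi22) ^ 2 = 1
  rw [t_eq, t, pow_two, ev_cons, ev_nil, mul_one, sq_all]

theorem H_isCoatom : IsCoatom H := by
  rw [index_and_eq.2]
  exact pstab_isCoatom_of_orbits matches_ρ (by decide) orbits_ok subs_letters cover_ok
    transitive (by decide +kernel) index_and_eq.2.le (by decide +kernel) (by decide +kernel)

theorem centralizer_t : Subgroup.centralizer ({t} : Set Cfsg.Spor.Fi22) = H := by
  refine centralizer_eq_of_coatom H_isCoatom (fun h hh => ?_) (a := ev Lg [1]) ?_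
  · rw [Subgroup.mem_centralizer_singleton_iff, ← t_eq]
    exact congrArg Subtype.val (Subgroup.mem_center_iff.mp U62.z_center ⟨h, hh⟩)
  · intro h
    rw [t, ← ev_append, ← ev_append] at h
    have hl : ∀ l ∈ [1] ++ [0], l < (Lg).length := by decide +kernel
    have hl' : ∀ l ∈ [0] ++ [1], l < (Lg).length := by decide +kernel
    have h1 := matches_ρ.follow_eq _ (0 : Fin 3510) hl
    rw [h, matches_ρ.follow_eq _ (0 : Fin 3510) hl'] at h1
    have hn : Nat.beq (follow (tget Top.Tb) 0 ([0] ++ [1]))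
        (follow (tget Top.Tb) 0 ([1] ++ [0])) = false := by decide +kernel
    rw [show ((0 : Fin 3510) : Nat) = 0 from rfl] at h1
    rw [h1] at hn
    simp at hn

theorem ev_rev (w : List Nat) : ev Lg w.reverse = (ev Lg w)⁻¹ := by
  induction w with
  | nil => simp
  | cons l w ih =>
    rw [List.reverse_cons, ev_append, ih]
    simp [mul_inv_rev, inv_eq_of_mul_eq_one_right (sq_all l)]

theorem rep (w : List Nat) (hw : checkLetters 9 [w] = true) (β : Fin 3510)
    (hβ : Nat.beq (follow (tget Top.Tb) 0 w) β.val = true) {m : Nat}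
    (hv : checkLetters 9 [(List.replicate m ([0] ++ (w.reverse ++ [0] ++ w))).flatten] = true)
    (hp : allList (fun b => Nat.beq
        (follow (tget Top.Tb) b (List.replicate m ([0] ++ (w.reverse ++ [0] ++ w))).flatten)
        (follow (tget Top.Tb) b [])) (U62.base.map Fin.val) = true) :
    ρ (ev Lg w)⁻¹ ⟨0, by decide⟩ = β ∧
      (t * ((ev Lg w)⁻¹ * t * (ev Lg w)⁻¹⁻¹)) ^ m = 1 := by
  constructor
  · rw [map_inv]
    refine Fin.ext ?_
    rw [matches_ρ.follow_eq w _ (letters_lt (len_Lg ▸ hw) w (by simp))]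
    exact Nat.eq_of_beq_eq_true hβ
  · rw [t, inv_inv, ← ev_rev, ← ev_append, ← ev_append, ← ev_append, pow_ev, ← ev_nil (L := Lg)]
    exact U62.eq_of_base hv (by decide +kernel) hp

theorem threeTransp : Cfsg.IsThreeTranspositionClass (conjugatesOf t) := by
  have := isSimple
  refine threeTransposition_class (ρ := ρ) (β₀ := ⟨0, by decide⟩) orderOf_t
    (centralizer_t.trans index_and_eq.2) fun i hi => ?_
  obtain ⟨c, hc, horb⟩ := orbits_cover matches_ρ orbits_ok subs_letters cover_ok i
    (fun h => hi (Fin.ext h))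
  simp only [Orb.certs, List.mem_cons, List.not_mem_nil, or_false] at hc
  rcases hc with rfl | rfl
  · obtain ⟨g, hg, rfl⟩ := horb 1 rfl
    obtain ⟨h1, h2⟩ := rep [1] (by decide +kernel) 1 (by decide +kernel) (m := 3)
      (by decide +kernel) (by decide +kernel)
    exact ⟨_, g, index_and_eq.2 ▸ hg, by rw [map_mul, Equiv.Perm.mul_apply, h1], Or.inr h2⟩
  · obtain ⟨g, hg, rfl⟩ := horb 6 rfl
    obtain ⟨h1, h2⟩ := rep [1, 0, 2, 1] (by decide +kernel) 6
      (by decide +kernel) (m := 2) (by decide +kernel) (by decide +kernel)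
    exact ⟨_, g, index_and_eq.2 ▸ hg, by rw [map_mul, Equiv.Perm.mul_apply, h1], Or.inl h2⟩

theorem card_class : Nat.card (conjugatesOf t) = 3510 := by
  rw [card_conjugatesOf, centralizer_t, index_and_eq.1]

theorem realization : ∃ (G : Type) (_ : Group G) (_ : Finite G), Cfsg.IsFi22 G ∧ ∃ D : Set G,
    Cfsg.IsThreeTranspositionClass D ∧ Nat.card D = 3510 ∧
    ∀ d ∈ D, ∃ (F : Type) (_ : Field F) (_ : Fintype F), Fintype.card F = 4 ∧
      Cfsg.IsNonsplitDoubleCover (Subgroup.centralizer ({d} : Set G)) (Cfsg.PSU 6 F 2) := by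
  refine ⟨Cfsg.Spor.Fi22, inferInstance, card_le.1, isFi22, conjugatesOf t, threeTransp, card_class,
    fun d hd => ⟨G24.F4, inferInstance, inferInstance, G24.F4.card_eq, ?_⟩⟩
  obtain ⟨g, rfl⟩ := isConj_iff.mp hd
  exact nonsplitDoubleCover_congr
    ((MulEquiv.subgroupCongr centralizer_t.symm).trans (centralizerConj g t)) U62.isDoubleCover

end CfsgLib.Coset.Fi22
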